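import Cfsg.Agent.Lib.Spor.J2Unique.Local.Part0

/-!
The bound 32 for the centralizer: the assembled checks.
-/

set_option autoImplicit false

namespace CfsgLib.Spor.J2Unique.Local

open CfsgLib.Spor.TC

theorem steps_ok : cert.SStepsOK 0 559 :=
  steps0

def rcodes : List ℕ := [
  0x7000020000040000200000b000030000080000300000300001000002000010000010000100000000001,
  0x500001000006000010000120000400005a0000400000c0000200000d000020000160000500004700005,
  0x1500004000060000040000090000100000a00001000010000030000110000300000e0000300000f00003,
  0x61000030000140000300005b000020000130000200005e0000400005f00004000027000090000a700009,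
  0xe1000070000530000700005d000090000ba000090000180000600036b000110000460000200001700002,
  0x12100013000062000130000e90001800012600018000369000110000190000500004f0000600004e00006,
  0x52000050000e0000050000ea000080001960000800011f0001300035d000100001670000800002200008,
  0x16c0000900002400009000197000070000eb000070000540000a00031d0001b0000230000700016600007,
  0x250000800016d000080000bb0000500005c0000500007a0001800032b0001c0000a60000400002600004,
  0x1be000180001a0000180001c70001300019e0001300031b0001b0000550000800002e0000b00021f0000b,
  0x2930000c0000300000c0002a5000140002a7000140002770001f0002270001e00021e0000a00002f0000a,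
  0x310000b0002920000b0002be0000d0003460000d0003150001a0002b4000190002f70000d0000320000d,
  0x2fa000140002ab000140003470000c0002bf0000c0003550000f0000340000e0000330000c0002f60000c,
  0x3e5000150003e7000150003f1000190003f3000190000350000d0000360000f0004330001600043e00016,
  0x43b0001600043d000160003af0001a0003560001a0000370000e0003540000d000038000100003d200010,
  0x3620001100003a000110004510001b00035e0001b00035c0000700035a000130003d30000f0000390000f,
  0x3b000100003630001000036c0001c0004520001c00036a00005000368000060003660001200003c00012,
  0x379000200003c4000200004550001d0004560001d00036f0001200036e0001200003d0001100036700011,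
  0x63000060001200000600019f0000a0001c60000a00035b0001000011e000070002a10001400006400014,
  0x2aa0000d0002fb0000d0002a60000b0002a40000b0004350001600006600015000065000130002a000013,
  0x3e60000e0003e40000e00044b0001e00045a0001e000067000140000680001600042b0001700042d00017,
  0x43c0000f00043a0000f0004380001f0004360001f000069000150004340001400043f0000e0004320000e,
  0x41e0001d0004300001d00045d000200004590002000042e0001700042f0001700042c0001500042a00015,
  0x1a10000a0001bf0000a000127000060000e8000060003290001c00007b000090000af000180000ae00018,
  0x44e0001e0003850001e0003f20000e0003f00000e0002b50000c0000960001a00038e0001f0002fc0001f,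
  0x3490001f0003160001f0003570000f0003ae0000f000097000190003140000c0000980001b0003940001b,
  0x3220001c00009a0001c00035f000100004500001000031c0000800031a0000a0003950001a0000990001a,
  0x9b0001b0003230001b0004530001100036d0001100032a00009000328000180003260001d00009c0001d,
  0x4310001700041f0001700045700012000454000120003340001d0003350001d00009d0001c0003270001c,
  0x3840001900044f0001900045b0001500044a000150002260000b0000c20001f0002850002000038200020,
  0x3170001a0003480001a00043700016000439000160000c30001e0002760000b0002fd0001900038f00019,
  0x3c500012000378000120004580001700045c0001700038800020000389000200003830001e0002840001e]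

set_option maxRecDepth 100000 in
theorem rows_ok : cert.SRowsOK 559 32 0 32 :=
  Cert.SRowsOK.of_check _ (codes := rcodes) (by decide +kernel)

end CfsgLib.Spor.J2Unique.Local
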